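import Groth.Agent.CycK.PtSub
import Groth.Agent.RefX.Reflexive
import Groth.Agent.HomShX.Prec
import Groth.Agent.ConsPropLib.FibreLocFreeRank
import Groth.Agent.NodePush7.Alg

/-!
# Enlarging a torsion free sheaf to a locally free one at finitely many points
-/

set_option autoImplicit false
set_option linter.style.haveILetI false
set_option backward.isDefEq.respectTransparency false
set_option backward.isDefEq.respectTransparency.types false
set_option maxHeartbeats 1000000

universe u

noncomputable section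

open CategoryTheory CategoryTheory.Limits AlgebraicGeometry TopologicalSpace IsLocalRing Opposite

namespace Groth.Agent.NodeModif7

open Groth.Agent

section Alg

variable {A : Type u} [CommRing A] [IsLocalRing A] {M : Type u} [AddCommGroup M] [Module A M] {a c : ℕ}

/-- The inclusion of `A^a × 𝔪^c` in the free module. -/
def inc (e : M ≃ₗ[A] NodePush7.TF A a c) : M →ₗ[A] (Fin a ⊕ Fin c → A) :=
  LinearMap.pi fun i => Sum.elim
    (fun i => (LinearMap.proj i).comp ((LinearMap.fst A _ _).comp e.toLinearMap))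
    (fun i => (maximalIdeal A).subtype.comp ((LinearMap.proj i).comp ((LinearMap.snd A _ _).comp e.toLinearMap))) i

theorem inc_inl (e : M ≃ₗ[A] NodePush7.TF A a c) (v : M) (i : Fin a) : inc e v (Sum.inl i) = (e v).1 i := rfl

theorem inc_inr (e : M ≃ₗ[A] NodePush7.TF A a c) (v : M) (i : Fin c) :
    inc e v (Sum.inr i) = ((e v).2 i : A) := rfl

theorem inc_injective (e : M ≃ₗ[A] NodePush7.TF A a c) : Function.Injective (inc e) := fun v w h => e.injective <|
  Prod.ext (funext fun i => congrFun h (Sum.inl i)) (funext fun i => Subtype.ext (congrFun h (Sum.inr i)))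

theorem mem_range_inc (e : M ≃ₗ[A] NodePush7.TF A a c) (g : Fin a ⊕ Fin c → A) :
    g ∈ LinearMap.range (inc e) ↔ ∀ i, g (Sum.inr i) ∈ maximalIdeal A := by
  refine ⟨?_, fun h => ⟨e.symm (fun i => g (Sum.inl i), fun i => ⟨g (Sum.inr i), h i⟩), ?_⟩⟩
  · rintro ⟨v, rfl⟩ i; exact ((e v).2 i).2
  · funext i; rcases i with i | i
    · rw [inc_inl, e.apply_symm_apply]
    · rw [inc_inr, e.apply_symm_apply]

/-- The linear forms of the free module, restricted. -/
def psi (e : M ≃ₗ[A] NodePush7.TF A a c) : (Fin a ⊕ Fin c → A) →ₗ[A] Module.Dual A M :=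
  LinearMap.mk₂ A (fun φ v => ∑ i, φ i * inc e v i)
    (fun φ φ' v => by simp [add_mul, Finset.sum_add_distrib])
    (fun t φ v => by simp only [Pi.smul_apply, smul_eq_mul, Finset.mul_sum, mul_assoc])
    (fun φ v v' => by simp [mul_add, Finset.sum_add_distrib])
    (fun t φ v => by simp only [map_smul, Pi.smul_apply, smul_eq_mul, Finset.mul_sum, mul_left_comm])

theorem psi_single (e : M ≃ₗ[A] NodePush7.TF A a c) (i : Fin a ⊕ Fin c) (v : M) :
    psi e (Pi.single i 1) v = inc e v i := by
  classical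
  show ∑ j, (Pi.single i 1 : _ → A) j * inc e v j = _
  rw [Finset.sum_eq_single i (fun j _ hj => by simp [hj]) (by simp)]
  simp

theorem psi_injective (e : M ≃ₗ[A] NodePush7.TF A a c)
    (hreg : 0 < c → ∃ z ∈ maximalIdeal A, ∀ w : A, z * w = 0 → w = 0) : Function.Injective (psi e) := by
  classical
  refine (injective_iff_map_eq_zero _).2 fun φ hφ => funext fun i => ?_
  rcases i with i | i
  · have := LinearMap.congr_fun hφ (e.symm (Pi.single i 1, 0))
    rw [psi, LinearMap.mk₂_apply, Fintype.sum_sum_type] at this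
    simpa [inc_inl, inc_inr, Pi.single_apply] using this
  · obtain ⟨z, hz, hzreg⟩ := hreg i.pos
    have := LinearMap.congr_fun hφ (e.symm (0, Pi.single i ⟨z, hz⟩))
    rw [psi, LinearMap.mk₂_apply, Fintype.sum_sum_type] at this
    refine hzreg _ ?_
    simp only [inc_inl, inc_inr, LinearEquiv.apply_symm_apply, Pi.zero_apply, mul_zero, Finset.sum_const_zero,
      zero_add] at this
    rw [Finset.sum_eq_single i (fun j _ hj => by simp [hj]) (by simp)] at this
    simpa [mul_comm] using this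

theorem smul_mem_range_psi (e : M ≃ₗ[A] NodePush7.TF A a c) (f : A) (hf : f ∈ maximalIdeal A)
    (θ : Module.Dual A M) : f • θ ∈ LinearMap.range (psi e) := by
  classical
  refine ⟨Sum.elim (fun i => f * θ (e.symm (Pi.single i 1, 0)))
    (fun i => θ (e.symm (0, Pi.single i ⟨f, hf⟩))), LinearMap.ext fun v => ?_⟩
  obtain ⟨⟨p, q⟩, rfl⟩ := e.symm.surjective v
  have h1 : ((p, q) : NodePush7.TF A a c) =
      ∑ i, p i • ((Pi.single i 1, 0) : NodePush7.TF A a c) + ∑ i, ((0, Pi.single i (q i)) : NodePush7.TF A a c) := by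
    refine Prod.ext ?_ ?_
    · funext j; simp [Prod.fst_sum, Finset.sum_apply, Pi.single_apply]
    · funext j; simp [Prod.snd_sum, Finset.sum_apply]
  have h2 : ∀ i, f * θ (e.symm (0, Pi.single i (q i))) =
      (q i : A) * θ (e.symm (0, Pi.single i ⟨f, hf⟩)) := fun i => by
    rw [← smul_eq_mul f, ← smul_eq_mul (q i : A), ← map_smul, ← map_smul, ← map_smul, ← map_smul]
    congr 2
    refine Prod.ext (by simp) (funext fun j => ?_)
    simp only [Prod.smul_snd, Pi.smul_apply]
    by_cases hij : j = i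
    · subst hij
      simp only [Pi.single_eq_same]
      exact Subtype.ext (mul_comm _ _)
    · simp [Pi.single_eq_of_ne hij]
  rw [psi, LinearMap.mk₂_apply, Fintype.sum_sum_type, LinearMap.smul_apply, smul_eq_mul]
  conv_rhs => rw [h1, map_add, map_sum, map_sum, map_add, map_sum, map_sum, mul_add, Finset.mul_sum, Finset.mul_sum]
  congr 1
  · refine Finset.sum_congr rfl fun i _ => ?_
    rw [Sum.elim_inl, inc_inl, LinearEquiv.apply_symm_apply, map_smul, map_smul, smul_eq_mul]
    ring
  · refine Finset.sum_congr rfl fun i _ => ?_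
    rw [Sum.elim_inr, inc_inr, LinearEquiv.apply_symm_apply, h2 i]
    ring

theorem length_coker_inc (e : M ≃ₗ[A] NodePush7.TF A a c) :
    Module.length A ((Fin a ⊕ Fin c → A) ⧸ LinearMap.range (inc e)) = c := by
  let π : (Fin a ⊕ Fin c → A) →ₗ[A] (Fin c → A ⧸ maximalIdeal A) :=
    LinearMap.pi fun i => (maximalIdeal A).mkQ.comp (LinearMap.proj (Sum.inr i))
  have hπ : Function.Surjective π := fun g =>
    ⟨Sum.elim 0 fun i => (Submodule.mkQ_surjective _ (g i)).choose,
      funext fun i => (Submodule.mkQ_surjective _ (g i)).choose_spec⟩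
  have hk : LinearMap.range (inc e) = LinearMap.ker π := by
    ext g
    rw [mem_range_inc, LinearMap.mem_ker, funext_iff]
    exact forall_congr' fun i => (Submodule.Quotient.mk_eq_zero _).symm
  rw [((Submodule.quotEquivOfEq _ _ hk).trans (π.quotKerEquivOfSurjective hπ)).length_eq,
    Module.length_pi_of_fintype]
  haveI : IsSimpleModule A (A ⧸ maximalIdeal A) :=
    isSimpleModule_iff_quot_maximal.2 ⟨_, maximalIdeal.isMaximal A, ⟨LinearEquiv.refl A _⟩⟩
  simp [Module.length_eq_one_iff.2 ‹IsSimpleModule A (A ⧸ maximalIdeal A)›]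

theorem smul_mem_range_inc (e : M ≃ₗ[A] NodePush7.TF A a c) (f : A) (hf : f ∈ maximalIdeal A)
    (g : Fin a ⊕ Fin c → A) : f • g ∈ LinearMap.range (inc e) :=
  (mem_range_inc e _).2 fun i => Ideal.mul_mem_right _ _ hf

end Alg

variable {X : Scheme.{u}}

theorem sl_eq {M N : X.Modules} (φ : M ⟶ N) (x : X) : CycK.sl φ x = RefHull.stalkMapₗ φ x := rfl

/-- Coherent submodules with prescribed stalks at finitely many closed points. -/
theorem exists_finSub [IsLocallyNoetherian X] {D : X.Modules} (hD : Coh.IsCoh D) (s : Finset X)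
    (hs : ∀ x ∈ s, IsClosed ({x} : Set X))
    (N : ∀ x, Submodule (X.presheaf.stalk x) (D.presheaf.stalk x))
    (hN : ∀ x ∈ s, CycK.Tors (R := X.presheaf.stalk x) (D.presheaf.stalk x ⧸ N x)) :
    ∃ (H : X.Modules) (ι : H ⟶ D), Coh.IsCoh H ∧ (∀ y, Function.Injective (RefHull.stalkMapₗ ι y)) ∧
      (∀ x ∈ s, LinearMap.range (RefHull.stalkMapₗ ι x) = N x) ∧
      ∀ y ∉ s, Function.Bijective (RefHull.stalkMapₗ ι y) := by
  classical
  induction s using Finset.induction with
  | empty =>
    refine ⟨D, 𝟙 D, hD, fun y => ?_, by simp, fun y _ => ?_⟩ <;> rw [HomShX.stalkMapₗ_id]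
    · exact Function.injective_id
    · exact Function.bijective_id
  | insert x s hx ih =>
    obtain ⟨H₀, ι₀, hH₀, hinj₀, hr₀, hb₀⟩ := ih (fun y hy => hs y (Finset.mem_insert_of_mem hy))
      (fun y hy => hN y (Finset.mem_insert_of_mem hy))
    let l := RefHull.stalkMapₗ ι₀ x
    have hl : Function.Bijective l := hb₀ x hx
    have hT : CycK.Tors (R := X.presheaf.stalk x) (H₀.presheaf.stalk x ⧸ (N x).comap l) := fun f hf t => by
      obtain ⟨t, rfl⟩ := Submodule.mkQ_surjective _ t
      obtain ⟨n, hn⟩ := hN x (Finset.mem_insert_self _ _) f hf (Submodule.Quotient.mk (p := N x) (l t))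
      refine ⟨n, ?_⟩
      rw [← Submodule.Quotient.mk_smul, Submodule.Quotient.mk_eq_zero] at hn
      rw [Submodule.mkQ_apply, ← Submodule.Quotient.mk_smul, Submodule.Quotient.mk_eq_zero,
        Submodule.mem_comap, map_smul]
      exact hn
    obtain ⟨H, κ, hκ, hH, hr, hb, -⟩ := CycK.exists_ptSub hH₀ x ((N x).comap l) hT
    haveI := hκ
    have hne : ∀ y, y ≠ x → ¬ x ⤳ y := fun y hy h => hy (by
      have h1 := h.mem_closed (hs x (Finset.mem_insert_self _ _)) (Set.mem_singleton x)
      exact h1)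
    refine ⟨H, κ ≫ ι₀, hH, fun y => ?_, fun y hy => ?_, fun y hy => ?_⟩
    · rw [HomShX.stalkMapₗ_comp]
      exact (hinj₀ y).comp (CycK.sl_injective κ y)
    · rw [HomShX.stalkMapₗ_comp, LinearMap.range_comp]
      rcases Finset.mem_insert.1 hy with rfl | hys
      · rw [← sl_eq κ, hr, Submodule.map_comap_eq_of_surjective hl.2]
      · have hyx : y ≠ x := fun h => hx (h ▸ hys)
        rw [← sl_eq κ, LinearMap.range_eq_top.2 (hb y (hne y hyx)).2, Submodule.map_top, hr₀ y hys]
    · rw [Finset.mem_insert, not_or] at hy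
      rw [HomShX.stalkMapₗ_comp]
      exact (hb₀ y hy.2).comp (hb y (hne y hy.1))

/-- A coherent sheaf which is torsion free of a given type at finitely many closed points and free elsewhere
lies in a locally free sheaf with cokernel killed by the maximal ideals at those points. -/
theorem exists_locFree [IsLocallyNoetherian X] {F : X.Modules} (hF : Coh.IsCoh F) (r : ℕ) (s : Finset X)
    (hs : ∀ x ∈ s, IsClosed ({x} : Set X)) (a : X → ℕ) (ha : ∀ x ∈ s, a x ≤ r)
    (hfree : ∀ x ∉ s, Nonempty (F.presheaf.stalk x ≃ₗ[X.presheaf.stalk x] (Fin r → X.presheaf.stalk x)))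
    (htype : ∀ x ∈ s, Nonempty (F.presheaf.stalk x ≃ₗ[X.presheaf.stalk x]
      NodePush7.TF (X.presheaf.stalk x) (a x) (r - a x)))
    (hreg : ∀ x ∈ s, ∃ z ∈ maximalIdeal (X.presheaf.stalk x), ∀ w : X.presheaf.stalk x, z * w = 0 → w = 0) :
    ∃ (G : X.Modules) (j : F ⟶ G), FlatMod.IsFinLocFreeOfRank r G ∧
      (∀ x, Function.Injective (RefHull.stalkMapₗ j x)) ∧
      (∀ x ∉ s, Function.Surjective (RefHull.stalkMapₗ j x)) ∧
      ∀ x ∈ s, (∀ f ∈ maximalIdeal (X.presheaf.stalk x), ∀ g : G.presheaf.stalk x, f • g ∈ LinearMap.range (RefHull.stalkMapₗ j x)) ∧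
        Module.length (X.presheaf.stalk x) (G.presheaf.stalk x ⧸ LinearMap.range (RefHull.stalkMapₗ j x)) =
          ((r - a x : ℕ) : ℕ∞) := by
  classical
  have hfp := QCoh.isCoh_iff_isFP.1 hF
  have hD := RefX.isCoh_dual hF
  let e := fun x (hx : x ∈ s) => (htype x hx).some
  let N : ∀ x, Submodule (X.presheaf.stalk x) ((RefHull.dual F).presheaf.stalk x) := fun x =>
    if hx : x ∈ s then (LinearMap.range (psi (e x hx))).map (RefX.dualStalk hfp x).symm.toLinearMap else ⊤
  obtain ⟨H, ι, hH, hinj, hr, hb⟩ := exists_finSub hD s hs N fun x hx f hf t => by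
    obtain ⟨t, rfl⟩ := Submodule.mkQ_surjective _ t
    refine ⟨1, ?_⟩
    rw [pow_one, Submodule.mkQ_apply, ← Submodule.Quotient.mk_smul, Submodule.Quotient.mk_eq_zero]
    simp only [N, dif_pos hx]
    exact ⟨f • RefX.dualStalk hfp x t, smul_mem_range_psi _ f hf _, by simp⟩
  have hHfp := QCoh.isCoh_iff_isFP.1 hH
  let ev : ∀ x, H.presheaf.stalk x →ₗ[X.presheaf.stalk x] Module.Dual (X.presheaf.stalk x) (F.presheaf.stalk x) :=
    fun x => (RefX.dualStalk hfp x).toLinearMap.comp (RefHull.stalkMapₗ ι x)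
  have hev : ∀ x, Function.Injective (ev x) := fun x => (RefX.dualStalk hfp x).injective.comp (hinj x)
  let j : F ⟶ RefHull.dual H := RefHull.bidualMap F ≫ HomShX.prec _ ι
  have hj : ∀ x v θ, RefX.dualStalk hHfp x (RefHull.stalkMapₗ j x v) θ = ev x θ v := fun x v θ => by
    show (RefX.unitStalk x).symm (RefHull.evalStalk H _ x (RefHull.stalkMapₗ j x v) θ) =
      (RefX.unitStalk x).symm (RefHull.evalStalk F _ x (RefHull.stalkMapₗ ι x θ) v)
    rw [HomShX.stalkMapₗ_comp, LinearMap.comp_apply, HomShX.evalStalk_prec, LinearMap.comp_apply]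
    congr 1
    obtain ⟨U, hx, m, rfl⟩ := TopCat.Presheaf.exists_germ_eq F.presheaf v
    rw [RefHull.stalkMapₗ_germ, RefHull.evalStalk_germ, RefHull.bidualMap_app_apply]
    rfl
  have key : ∀ x, ∀ (I : Type) [Fintype I] [DecidableEq I] (P : (I → X.presheaf.stalk x) →ₗ[X.presheaf.stalk x]
      Module.Dual (X.presheaf.stalk x) (F.presheaf.stalk x)),
      Function.Injective P → LinearMap.range (ev x) = LinearMap.range P →
      ∀ i₀ : F.presheaf.stalk x →ₗ[X.presheaf.stalk x] (I → X.presheaf.stalk x),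
      (∀ v i, P (Pi.single i 1) v = i₀ v i) →
      ∃ κ : (RefHull.dual H).presheaf.stalk x ≃ₗ[X.presheaf.stalk x] (I → X.presheaf.stalk x),
        ∀ v, κ (RefHull.stalkMapₗ j x v) = i₀ v := by
    intro x I _ _ P hP hPr i₀ hi₀
    let E : (I → X.presheaf.stalk x) ≃ₗ[X.presheaf.stalk x] H.presheaf.stalk x :=
      ((LinearEquiv.ofInjective P hP).trans (LinearEquiv.ofEq _ _ hPr.symm)).trans
        (LinearEquiv.ofInjective (ev x) (hev x)).symm
    have hE : ∀ φ, ev x (E φ) = P φ := fun φ => by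
      have h1 := (LinearEquiv.ofInjective (ev x) (hev x)).apply_symm_apply
        ((LinearEquiv.ofInjective P hP).trans (LinearEquiv.ofEq _ _ hPr.symm) φ)
      exact congrArg Subtype.val h1
    refine ⟨(RefX.dualStalk hHfp x).trans (E.symm.dualMap.symm.trans
      ((Pi.basisFun (X.presheaf.stalk x) I).constr (X.presheaf.stalk x)).symm), fun v => funext fun i => ?_⟩
    show RefX.dualStalk hHfp x (RefHull.stalkMapₗ j x v) (E (Pi.basisFun _ I i)) = _
    rw [hj, hE, Pi.basisFun_apply, hi₀]
  have knode : ∀ x (hx : x ∈ s), ∃ κ : (RefHull.dual H).presheaf.stalk x ≃ₗ[X.presheaf.stalk x]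
      (Fin (a x) ⊕ Fin (r - a x) → X.presheaf.stalk x), ∀ v, κ (RefHull.stalkMapₗ j x v) = inc (e x hx) v := by
    intro x hx
    refine key x _ (psi (e x hx)) (psi_injective _ fun _ => hreg x hx) ?_ _ fun v i => psi_single _ i v
    rw [LinearMap.range_comp, hr x hx]
    simp only [N, dif_pos hx]
    rw [← Submodule.map_comp, LinearEquiv.comp_coe, LinearEquiv.symm_trans_self, LinearEquiv.refl_toLinearMap,
      Submodule.map_id]
  have koff : ∀ x ∉ s, ∃ κ : (RefHull.dual H).presheaf.stalk x ≃ₗ[X.presheaf.stalk x]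
      (Fin r → X.presheaf.stalk x), Function.Bijective (κ ∘ RefHull.stalkMapₗ j x) := by
    intro x hx
    obtain ⟨g⟩ := hfree x hx
    let P := ((Pi.basisFun (X.presheaf.stalk x) (Fin r)).toDualEquiv.trans g.dualMap)
    obtain ⟨κ, hκ⟩ := key x (Fin r) P.toLinearMap P.injective (by
      rw [LinearEquiv.range, LinearMap.range_eq_top]
      show Function.Surjective (RefX.dualStalk hfp x ∘ RefHull.stalkMapₗ ι x)
      exact (RefX.dualStalk hfp x).surjective.comp (hb x hx).2)
      g.toLinearMap (fun v i => by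
        show (Pi.basisFun (X.presheaf.stalk x) (Fin r)).toDual (Pi.single i 1) (g v) = g v i
        rw [← Pi.basisFun_apply, Module.Basis.toDual_apply_right, Pi.basisFun_repr])
    refine ⟨κ, ?_⟩
    rw [show κ ∘ RefHull.stalkMapₗ j x = g from funext hκ]
    exact g.bijective
  have hG : Coh.IsCoh (RefHull.dual H) := RefX.isCoh_dual hH
  have hrk : ∀ x, Module.Free (X.presheaf.stalk x) ((RefHull.dual H).presheaf.stalk x) ∧
      Module.finrank (X.presheaf.stalk x) ((RefHull.dual H).presheaf.stalk x) = r := fun x => by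
    by_cases hx : x ∈ s
    · obtain ⟨κ, -⟩ := knode x hx
      refine ⟨Module.Free.of_equiv κ.symm, ?_⟩
      rw [κ.finrank_eq, Module.finrank_pi, Fintype.card_sum, Fintype.card_fin, Fintype.card_fin,
        Nat.add_sub_cancel' (ha x hx)]
    · obtain ⟨κ, -⟩ := koff x hx
      exact ⟨Module.Free.of_equiv κ.symm, by rw [κ.finrank_eq, Module.finrank_pi, Fintype.card_fin]⟩
  refine ⟨RefHull.dual H, j, ConsPropLib.isFinLocFreeOfRank_iff.2
    ⟨QCoh.isFinLocFree_iff.2 ⟨QCoh.isCoh_iff_isFP.1 hG, fun x => (hrk x).1⟩, fun x => (hrk x).2⟩,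
    fun x => ?_, fun x hx => ?_, fun x hx => ?_⟩
  · by_cases hx : x ∈ s
    · obtain ⟨κ, hκ⟩ := knode x hx
      exact fun v w h => inc_injective (e x hx) (by rw [← hκ, ← hκ, h])
    · obtain ⟨κ, hκ⟩ := koff x hx
      exact Function.Injective.of_comp hκ.1
  · obtain ⟨κ, hκ⟩ := koff x hx
    exact (κ.toEquiv.comp_surjective _).1 hκ.2
  · obtain ⟨κ, hκ⟩ := knode x hx
    have hmap : (LinearMap.range (RefHull.stalkMapₗ j x)).map (κ : _ →ₗ[X.presheaf.stalk x] _) =
        LinearMap.range (inc (e x hx)) := by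
      rw [← LinearMap.range_comp]
      exact congrArg LinearMap.range (LinearMap.ext hκ)
    refine ⟨fun f hf g => ?_, ?_⟩
    · have h1 := smul_mem_range_inc (e x hx) f hf (κ g)
      rw [← hmap, ← map_smul] at h1
      obtain ⟨w, hw, hw'⟩ := h1
      rwa [← κ.injective hw']
    · rw [(Submodule.Quotient.equiv _ _ κ hmap).length_eq, length_coker_inc]

end Groth.Agent.NodeModif7
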